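import Mathlib
import Groth.Prelude.Def_Pi1
import Groth.Agent.NormFieldX.Basic
import Groth.Agent.FDescent.MaxPoint
import Groth.Agent.QFUnib.Basic
import Groth.Agent.SchTop.Closed
import Groth.Agent.AssPtX.Basic

/-!
# The normalization in a normal scheme with locally finitely many components
-/

universe u

open CategoryTheory AlgebraicGeometry TopologicalSpace

set_option backward.isDefEq.respectTransparency false
set_option backward.isDefEq.respectTransparency.types false

namespace Groth.Agent.H4Norm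

open Groth.Agent

variable {X Y : Scheme.{u}}

theorem isIntegralElem_one {A B : Type*} [CommRing A] [CommRing B] (φ : A →+* B) : φ.IsIntegralElem 1 :=
  ⟨Polynomial.X - Polynomial.C 1, Polynomial.monic_X_sub_C 1, by simp⟩

/-- The hypothesis: normality and local finiteness of the components. -/
structure Good (Y : Scheme.{u}) : Prop where
  dom : ∀ y : Y, IsDomain (Y.presheaf.stalk y)
  icl : ∀ y : Y, IsIntegrallyClosed (Y.presheaf.stalk y)
  fin : LocallyFinite (fun Z : ↥(irreducibleComponents ↥Y) => (Z : Set ↥Y))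

theorem exists_generic (y : Y) : ∃ η : Y, closure {η} ∈ irreducibleComponents ↥Y ∧ η ⤳ y := by
  obtain ⟨Z, hZ, hyZ⟩ := exists_mem_irreducibleComponents_subset_of_isIrreducible {y} isIrreducible_singleton
  obtain ⟨η, rfl, -⟩ := FDescent.exists_maximal_of_mem_irreducibleComponents hZ
  exact ⟨η, hZ, specializes_iff_mem_closure.mpr (hyZ rfl)⟩

theorem eq_generic (hY : Good Y) {η η' y : Y} (h : closure {η} ∈ irreducibleComponents ↥Y)
    (h' : closure {η'} ∈ irreducibleComponents ↥Y) (hy : η ⤳ y) (hy' : η' ⤳ y) : η = η' := by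
  haveI := hY.dom y
  have e := SchTop.irreducibleComponents_eq y h h' hy.mem_closure hy'.mem_closure
  exact FDescent.maximal_of_closure_mem_irreducibleComponents h'
    (specializes_iff_mem_closure.mpr (e.ge (subset_closure rfl)))

theorem isOpen_component (hY : Good Y) {η : Y} (h : closure {η} ∈ irreducibleComponents ↥Y) :
    IsOpen (closure {η}) := by
  have e : closure {η} = (⋃ W : {W : ↥(irreducibleComponents ↥Y) // (W : Set Y) ≠ closure {η}}, (W.1 : Set Y))ᶜ := by
    ext x
    haveI := hY.dom x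
    refine ⟨fun hx hx' => ?_, fun hx => ?_⟩
    · obtain ⟨W, hW⟩ := Set.mem_iUnion.1 hx'
      exact W.2 (SchTop.irreducibleComponents_eq x W.1.2 h hW hx)
    · by_contra hxZ
      obtain ⟨W, hW, hxW⟩ := Set.mem_sUnion.1 ((sUnion_irreducibleComponents (X := Y)).ge (Set.mem_univ x))
      exact hx (Set.mem_iUnion.2 ⟨⟨⟨W, hW⟩, fun h => hxZ (h ▸ hxW)⟩, hxW⟩)
  rw [e]
  exact ((hY.fin.comp_injective Subtype.val_injective).isClosed_iUnion
    fun W => isClosed_of_mem_irreducibleComponents _ W.1.2).isOpen_compl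

theorem finite_generic (hY : Good Y) {V : Y.Opens} (hV : IsCompact (V : Set Y)) :
    {η : Y | closure {η} ∈ irreducibleComponents ↥Y ∧ η ∈ V}.Finite := by
  refine Set.Finite.of_finite_image (f := fun η => closure ({η} : Set Y)) ?_ fun a ha b _ hab =>
    (FDescent.maximal_of_closure_mem_irreducibleComponents ha.1
      (specializes_iff_mem_closure.mpr (hab.le (subset_closure rfl)))).symm
  refine ((hY.fin.finite_nonempty_inter_compact hV).image Subtype.val).subset ?_
  rintro _ ⟨η, ⟨h, hη⟩, rfl⟩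
  exact ⟨⟨_, h⟩, ⟨η, subset_closure rfl, hη⟩, rfl⟩

theorem isField_generic (hY : Good Y) {η : Y} (h : closure {η} ∈ irreducibleComponents ↥Y) :
    IsField (Y.presheaf.stalk η) := by
  haveI := hY.dom η
  exact QFUnib.isField_stalk_maximal η fun _ hw => FDescent.maximal_of_closure_mem_irreducibleComponents h hw

/-- Sections vanishing at all generic points vanish. -/
theorem eq_zero_of_germ (hY : Good Y) {V : Y.Opens} (s : Γ(Y, V))
    (hs : ∀ η : Y, closure {η} ∈ irreducibleComponents ↥Y → ∀ hη : η ∈ V, Y.presheaf.germ V η hη s = 0) :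
    s = 0 := by
  refine TopCat.Presheaf.section_ext Y.sheaf V s 0 fun y hy => ?_
  obtain ⟨η, hη, hηy⟩ := exists_generic y
  haveI := hY.dom y
  rw [map_zero]
  apply QFUnib.stalkSpecializes_injective hηy
  rw [map_zero]
  exact (TopCat.Presheaf.germ_stalkSpecializes_apply Y.presheaf hy hηy s).trans (hs η hη _)

theorem exists_frac {x η : Y} (hd : IsDomain (Y.presheaf.stalk x)) (hf : IsField (Y.presheaf.stalk η))
    (h : η ⤳ x) :
    letI := (Y.presheaf.stalkSpecializes h).hom.toAlgebra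
    IsFractionRing (Y.presheaf.stalk x) (Y.presheaf.stalk η) := by
  letI := (Y.presheaf.stalkSpecializes h).hom.toAlgebra
  have hinj := QFUnib.stalkSpecializes_injective (S := Y) h
  obtain ⟨V, hV, hxV, -⟩ := exists_isAffineOpen_mem_and_subset (x := x) (U := ⊤) trivial
  have hηV : η ∈ V := h.mem_open V.2 hxV
  letI := TopCat.Presheaf.algebra_section_stalk Y.presheaf ⟨η, hηV⟩
  haveI := hV.isLocalization_stalk ⟨η, hηV⟩
  have hnz : ∀ r : Γ(Y, V), IsUnit (Y.presheaf.germ V η hηV r) → Y.presheaf.germ V x hxV r ≠ 0 := fun r hu h0 => by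
    have hz := congrArg (Y.presheaf.stalkSpecializes h) h0
    rw [TopCat.Presheaf.germ_stalkSpecializes_apply, map_zero] at hz
    letI := hf.toField
    exact hu.ne_zero hz
  refine { map_units := ?_, surj := ?_, exists_of_eq := fun {a b} e => ⟨1, by simpa using hinj e⟩ }
  · intro y
    letI := hf.toField
    exact Ne.isUnit fun e => nonZeroDivisors.coe_ne_zero y (hinj (e.trans (map_zero _).symm))
  · intro z
    obtain ⟨⟨a, s⟩, e⟩ := IsLocalization.surj (hV.primeIdealOf ⟨η, hηV⟩).asIdeal.primeCompl z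
    refine ⟨⟨Y.presheaf.germ V x hxV a, ⟨Y.presheaf.germ V x hxV s,
      mem_nonZeroDivisors_of_ne_zero (hnz s (IsLocalization.map_units _ s))⟩⟩, ?_⟩
    show z * Y.presheaf.stalkSpecializes h (Y.presheaf.germ V x hxV s) =
      Y.presheaf.stalkSpecializes h (Y.presheaf.germ V x hxV a)
    rw [TopCat.Presheaf.germ_stalkSpecializes_apply, TopCat.Presheaf.germ_stalkSpecializes_apply]
    exact e

/-- Extension by zero of an integral element at a generic point. -/
theorem exists_section (hY : Good Y) {V : Y.Opens} {η : Y} (hη : closure {η} ∈ irreducibleComponents ↥Y)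
    (hηV : η ∈ V) (y : Y.presheaf.stalk η) (hy : (Y.presheaf.germ V η hηV).hom.IsIntegralElem y) :
    ∃ s : Γ(Y, V), Y.presheaf.germ V η hηV s = y ∧
      ∀ η' : Y, closure {η'} ∈ irreducibleComponents ↥Y → η' ≠ η → ∀ h : η' ∈ V, Y.presheaf.germ V η' h s = 0 := by
  classical
  let Good' (W : Y.Opens) (s : Γ(Y, W)) : Prop :=
    ∀ η' : Y, closure {η'} ∈ irreducibleComponents ↥Y → ∀ h : η' ∈ W,
      (∀ e : η' = η, Y.presheaf.germ W η (e ▸ h) s = y) ∧ (η' ≠ η → Y.presheaf.germ W η' h s = 0)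
  have hloc : ∀ x : V, ∃ (W : Y.Opens) (_ : x.1 ∈ W) (_ : W ≤ V) (s : Γ(Y, W)), Good' W s := by
    rintro ⟨x, hx⟩
    by_cases hsp : η ⤳ x
    · haveI := hY.dom x
      haveI := hY.icl x
      letI := (Y.presheaf.stalkSpecializes hsp).hom.toAlgebra
      haveI := exists_frac (hY.dom x) (isField_generic hY hη) hsp
      have hint : IsIntegral (Y.presheaf.stalk x) y := by
        obtain ⟨P, hP, hPy⟩ := hy
        refine ⟨P.map (Y.presheaf.germ V x hx).hom, hP.map _, ?_⟩
        rw [Polynomial.eval₂_map]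
        have e : (algebraMap (Y.presheaf.stalk x) (Y.presheaf.stalk η)).comp (Y.presheaf.germ V x hx).hom =
            (Y.presheaf.germ V η hηV).hom :=
          RingHom.ext fun r => TopCat.Presheaf.germ_stalkSpecializes_apply Y.presheaf hx hsp r
        rw [e]
        exact hPy
      obtain ⟨t, ht⟩ := IsIntegrallyClosed.isIntegral_iff.1 hint
      obtain ⟨W₀, hxW₀, s₀, rfl⟩ := Y.presheaf.exists_germ_eq (x := x) t
      let Z : Y.Opens := ⟨closure {η}, isOpen_component hY hη⟩
      refine ⟨W₀ ⊓ V ⊓ Z, ⟨⟨hxW₀, hx⟩, hsp.mem_closure⟩, inf_le_left.trans inf_le_right,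
        Y.presheaf.map (homOfLE (inf_le_left.trans inf_le_left)).op s₀, fun η' hη' h => ⟨fun e => ?_, fun e => ?_⟩⟩
      · rw [Y.presheaf.germ_res_apply, ← ht]
        exact (TopCat.Presheaf.germ_stalkSpecializes_apply Y.presheaf hxW₀ hsp s₀).symm
      · exact absurd (FDescent.maximal_of_closure_mem_irreducibleComponents hη'
          (specializes_iff_mem_closure.mpr h.2)).symm e
    · refine ⟨V ⊓ ⟨(closure {η})ᶜ, isClosed_closure.isOpen_compl⟩,
        ⟨hx, fun hm => hsp (specializes_iff_mem_closure.mpr hm)⟩, inf_le_left, 0,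
        fun η' _ h => ⟨fun e => absurd (subset_closure (Set.mem_singleton_iff.mpr e)) h.2, fun _ => map_zero _⟩⟩
  choose W hxW hW s hs using hloc
  obtain ⟨S, hS, -⟩ := TopCat.Sheaf.existsUnique_gluing' Y.sheaf W V (fun p => homOfLE (hW p))
    (fun p hp => Opens.mem_iSup.2 ⟨⟨p, hp⟩, hxW ⟨p, hp⟩⟩) s fun p q => by
      apply sub_eq_zero.mp
      refine eq_zero_of_germ hY (V := W p ⊓ W q) _ fun η' hη' h => ?_
      rw [map_sub, sub_eq_zero]
      refine (Y.presheaf.germ_res_apply (Opens.infLELeft _ _) η' h (s p)).trans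
        (Eq.trans ?_ (Y.presheaf.germ_res_apply (Opens.infLERight _ _) η' h (s q)).symm)
      by_cases e : η' = η
      · subst e
        exact ((hs p η' hη' h.1).1 rfl).trans ((hs q η' hη' h.2).1 rfl).symm
      · exact ((hs p η' hη' h.1).2 e).trans ((hs q η' hη' h.2).2 e).symm
  refine ⟨S, ?_, fun η' hη' hne hm => ?_⟩
  · refine Eq.trans ?_ ((hs ⟨η, hηV⟩ η hη (hxW ⟨η, hηV⟩)).1 rfl)
    rw [← hS ⟨η, hηV⟩]
    exact (Y.presheaf.germ_res_apply _ _ _ _).symm
  · refine Eq.trans ?_ ((hs ⟨η', hm⟩ η' hη' (hxW ⟨η', hm⟩)).2 hne)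
    rw [← hS ⟨η', hm⟩]
    exact (Y.presheaf.germ_res_apply _ _ _ _).symm

variable (f : Y ⟶ X) [QuasiCompact f] [QuasiSeparated f] {U : X.Opens}

theorem le_preimage (U : X.Opens) : f ⁻¹ᵁ U ≤ f.toNormalization ⁻¹ᵁ f.fromNormalization ⁻¹ᵁ U := by
  rw [← Scheme.Hom.comp_preimage, Scheme.Hom.toNormalization_fromNormalization]

/-- Evaluation of sections of the normalization at a point of the source. -/
noncomputable def ev (η : Y) (hη : η ∈ f ⁻¹ᵁ U) :
    Γ(f.normalization, f.fromNormalization ⁻¹ᵁ U) →+* Y.presheaf.stalk η :=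
  (f.toNormalization.appLE _ _ (le_preimage f U) ≫ Y.presheaf.germ (f ⁻¹ᵁ U) η hη).hom

theorem appLE_injective (hU : IsAffineOpen U) :
    Function.Injective (f.toNormalization.appLE (f.fromNormalization ⁻¹ᵁ U) _ (le_preimage f U)) := by
  letI := (f.app U).hom.toAlgebra
  intro a b h
  rw [← f.normalizationObjIso_hom_val hU] at h
  exact ((ConcreteCategory.isIso_iff_bijective (f.normalizationObjIso hU).hom).1 inferInstance).1 (Subtype.ext h)

theorem exists_appLE_eq (hU : IsAffineOpen U) {r : Γ(Y, f ⁻¹ᵁ U)}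
    (hr : (f.app U).hom.IsIntegralElem r) :
    ∃ c, f.toNormalization.appLE (f.fromNormalization ⁻¹ᵁ U) _ (le_preimage f U) c = r := by
  letI := (f.app U).hom.toAlgebra
  obtain ⟨c, hc⟩ := ((ConcreteCategory.isIso_iff_bijective (f.normalizationObjIso hU).hom).1 inferInstance).2 ⟨r, hr⟩
  refine ⟨c, ?_⟩
  rw [← f.normalizationObjIso_hom_val hU]
  exact congrArg Subtype.val hc

theorem ev_integral (hU : IsAffineOpen U) (η : Y) (hη : η ∈ f ⁻¹ᵁ U) (c) :
    ((Y.presheaf.germ (f ⁻¹ᵁ U) η hη).hom.comp (f.app U).hom).IsIntegralElem (ev f η hη c) := by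
  letI := (f.app U).hom.toAlgebra
  have e : f.toNormalization.appLE (f.fromNormalization ⁻¹ᵁ U) _ (le_preimage f U) c =
      ((f.normalizationObjIso hU).hom c).1 := by
    rw [← f.normalizationObjIso_hom_val hU]; rfl
  obtain ⟨P, hP, hPc⟩ := ((f.normalizationObjIso hU).hom c).2
  refine ⟨P, hP, ?_⟩
  show Polynomial.eval₂ _ (Y.presheaf.germ (f ⁻¹ᵁ U) η hη (f.toNormalization.appLE _ _ _ c)) P = 0
  rw [e, ← Polynomial.hom_eval₂]
  exact (congrArg _ hPc).trans (map_zero _)

theorem exists_ev (hY : Good Y) (hU : IsAffineOpen U) {η : Y} (hη : closure {η} ∈ irreducibleComponents ↥Y)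
    (hηU : η ∈ f ⁻¹ᵁ U) {y : Y.presheaf.stalk η}
    (hy : ((Y.presheaf.germ (f ⁻¹ᵁ U) η hηU).hom.comp (f.app U).hom).IsIntegralElem y) :
    ∃ c, ev f η hηU c = y ∧
      ∀ η' : Y, closure {η'} ∈ irreducibleComponents ↥Y → η' ≠ η → ∀ h : η' ∈ f ⁻¹ᵁ U, ev f η' h c = 0 := by
  obtain ⟨P, hP, hPy⟩ := hy
  obtain ⟨s, hs, hs0⟩ := exists_section hY hη hηU y
    ⟨P.map (f.app U).hom, hP.map _, by rw [Polynomial.eval₂_map]; exact hPy⟩
  have hint : (f.app U).hom.IsIntegralElem s := by
    refine ⟨Polynomial.X * P, Polynomial.monic_X.mul hP, eq_zero_of_germ hY _ fun η' hη' h => ?_⟩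
    show (Y.presheaf.germ (f ⁻¹ᵁ U) η' h).hom _ = 0
    rw [Polynomial.hom_eval₂, Polynomial.eval₂_mul, Polynomial.eval₂_X]
    by_cases e : η' = η
    · subst e
      rw [show (Y.presheaf.germ (f ⁻¹ᵁ U) η' h).hom s = y from hs, hPy, mul_zero]
    · rw [show (Y.presheaf.germ (f ⁻¹ᵁ U) η' h).hom s = 0 from hs0 η' hη' e h, zero_mul]
  obtain ⟨c, hc⟩ := exists_appLE_eq f hU hint
  refine ⟨c, ?_, fun η' hη' e h => ?_⟩
  · show Y.presheaf.germ (f ⁻¹ᵁ U) η hηU (f.toNormalization.appLE _ _ _ c) = y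
    rw [hc, hs]
  · show Y.presheaf.germ (f ⁻¹ᵁ U) η' h (f.toNormalization.appLE _ _ _ c) = 0
    rw [hc, hs0 η' hη' e h]

/-- A prime of the normalization contains the kernel of evaluation at some generic point. -/
theorem exists_ker_le (hY : Good Y) (hU : IsAffineOpen U)
    (p : Ideal Γ(f.normalization, f.fromNormalization ⁻¹ᵁ U)) [p.IsPrime] :
    ∃ (η : Y) (hη : closure {η} ∈ irreducibleComponents ↥Y) (h : η ∈ f ⁻¹ᵁ U), RingHom.ker (ev f η h) ≤ p := by
  classical
  by_contra! hne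
  have hfin := finite_generic hY (f.isCompact_preimage hU.isCompact)
  choose! c hc hcp using fun (η : Y) (h : η ∈ hfin.toFinset) =>
    Set.not_subset.1 (hne η (hfin.mem_toFinset.1 h).1 (hfin.mem_toFinset.1 h).2)
  have h0 : ∏ η ∈ hfin.toFinset, c η = 0 := by
    apply appLE_injective f hU
    rw [map_zero]
    refine eq_zero_of_germ hY _ fun η hη h => ?_
    show ev f η h (∏ η ∈ hfin.toFinset, c η) = 0
    have hm : η ∈ hfin.toFinset := hfin.mem_toFinset.2 ⟨hη, h⟩
    rw [← Finset.mul_prod_erase _ _ hm, map_mul, show ev f η h (c η) = 0 from hc η hm, zero_mul]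
  obtain ⟨η, hη, hmem⟩ := Ideal.IsPrime.prod_mem_iff.1 (h0 ▸ p.zero_mem)
  exact hcp η hη hmem

theorem eq_of_ker_le (hY : Good Y) (hU : IsAffineOpen U) {η η' : Y}
    (hη : closure {η} ∈ irreducibleComponents ↥Y) (hη' : closure {η'} ∈ irreducibleComponents ↥Y)
    (h : η ∈ f ⁻¹ᵁ U) (h' : η' ∈ f ⁻¹ᵁ U) (hle : RingHom.ker (ev f η' h') ≤ RingHom.ker (ev f η h)) :
    η' = η := by
  by_contra hne
  obtain ⟨c, hc, hc0⟩ := exists_ev f hY hU hη h (y := 1) (isIntegralElem_one _)
  have h1 : ev f η h c = 0 := hle (hc0 η' hη' hne h')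
  haveI := hY.dom η
  exact one_ne_zero (hc.symm.trans h1)

theorem primeIdealOf_eq_ker (hY : Good Y) (hU : IsAffineOpen U) {η : Y}
    (hη : closure {η} ∈ irreducibleComponents ↥Y) (h : η ∈ f ⁻¹ᵁ U) :
    ((hU.preimage f.fromNormalization).primeIdealOf ⟨f.toNormalization η, le_preimage f U h⟩).asIdeal =
      RingHom.ker (ev f η h) := by
  ext c
  have e : ev f η h c = f.toNormalization.stalkMap η
      (f.normalization.presheaf.germ _ _ (le_preimage f U h) c) := by
    erw [Scheme.Hom.germ_stalkMap_apply]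
    exact Y.presheaf.germ_res_apply (homOfLE (le_preimage f U)) η h _
  letI := (isField_generic hY hη).toField
  haveI := (f.toNormalization.toLRSHom.prop η)
  rw [RingHom.mem_ker, e]
  refine ((not_iff_comm.1 ((QCoh.mem_basicOpen_iff_notMem _ _ c).symm.trans
    (f.normalization.mem_basicOpen c _ (le_preimage f U h)))).symm).trans ?_
  rw [← isUnit_map_iff (f.toNormalization.stalkMap η).hom, isUnit_iff_ne_zero, not_not]

theorem isNormal (hY : Good Y) : Pi1.IsNormalScheme f.normalization := by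
  intro n
  obtain ⟨U, hU, hnU, -⟩ := exists_isAffineOpen_mem_and_subset (x := f.fromNormalization n) (U := ⊤) trivial
  have hW : IsAffineOpen (f.fromNormalization ⁻¹ᵁ U) := hU.preimage _
  let C := Γ(f.normalization, f.fromNormalization ⁻¹ᵁ U)
  let p := (hW.primeIdealOf ⟨n, hnU⟩).asIdeal
  obtain ⟨η, hη, hηU, hker⟩ := exists_ker_le f hY hU p
  let K := Y.presheaf.stalk η
  letI : Field K := (isField_generic hY hη).toField
  letI algA : Algebra Γ(X, U) K := ((Y.presheaf.germ (f ⁻¹ᵁ U) η hηU).hom.comp (f.app U).hom).toAlgebra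
  let Cη := integralClosure Γ(X, U) K
  let ψ : C →+* Cη := (ev f η hηU).codRestrict Cη.toSubring fun c => ev_integral f hU η hηU c
  have hψ : Function.Surjective ψ := fun y => by
    obtain ⟨c, hc, -⟩ := exists_ev f hY hU hη hηU y.2
    exact ⟨c, Subtype.ext hc⟩
  obtain ⟨e, he, he0⟩ := exists_ev f hY hU hη hηU (y := 1) (isIntegralElem_one _)
  have hep : e ∉ p := fun h => by
    have : 1 - e ∈ p := hker (by rw [RingHom.mem_ker, map_sub, map_one, he, sub_self])
    exact (inferInstance : p.IsPrime).ne_top ((Ideal.eq_top_iff_one _).2 (by simpa using p.add_mem this h))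
  have hkill : ∀ c, ψ c = 0 → e * c = 0 := fun c hc => by
    apply appLE_injective f hU
    rw [map_zero]
    refine eq_zero_of_germ hY _ fun η' hη' h => ?_
    show ev f η' h (e * c) = 0
    rw [map_mul]
    by_cases h' : η' = η
    · subst h'
      rw [show ev f η' h c = 0 from congrArg Subtype.val hc, mul_zero]
    · rw [he0 η' hη' h' h, zero_mul]
  letI := f.normalization.presheaf.algebra_section_stalk (⟨n, hnU⟩ : f.fromNormalization ⁻¹ᵁ U)
  haveI : IsLocalization.AtPrime (f.normalization.presheaf.stalk n) p := hW.isLocalization_stalk ⟨n, hnU⟩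
  let L := f.normalization.presheaf.stalk n
  have hk : RingHom.ker ψ ≤ RingHom.ker (algebraMap C L) := fun c hc =>
    (IsLocalization.map_eq_zero_iff p.primeCompl L c).2 ⟨⟨e, hep⟩, hkill c hc⟩
  letI : Algebra Cη L := (RingHom.liftOfSurjective ψ hψ ⟨algebraMap C L, hk⟩).toAlgebra
  have halg : ∀ c, algebraMap Cη L (ψ c) = algebraMap C L c := fun c =>
    RingHom.liftOfRightInverse_comp_apply ψ _ _ ⟨algebraMap C L, hk⟩ c
  have hq : (p.map ψ).IsPrime := Ideal.map_isPrime_of_surjective hψ (fun c hc => hker (congrArg Subtype.val hc))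
  have hmem : ∀ c, ψ c ∈ p.map ψ ↔ c ∈ p := fun c => by
    refine ⟨fun h => ?_, Ideal.mem_map_of_mem _⟩
    obtain ⟨c', hc', e'⟩ := (Ideal.mem_map_iff_of_surjective ψ hψ).1 h
    have : c - c' ∈ p := hker (congrArg Subtype.val (show ψ (c - c') = 0 by rw [map_sub, e', sub_self]))
    simpa using p.add_mem this hc'
  haveI : IsLocalization (p.map ψ).primeCompl L :=
    { map_units := fun y => by
        obtain ⟨c, hc⟩ := hψ y.1
        rw [← hc, halg]
        exact IsLocalization.map_units L (⟨c, fun h => y.2 (hc ▸ (hmem c).2 h)⟩ : p.primeCompl)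
      surj := fun z => by
        obtain ⟨⟨c, s⟩, hcs⟩ := IsLocalization.surj p.primeCompl z
        exact ⟨⟨ψ c, ⟨ψ s, fun h => s.2 ((hmem _).1 h)⟩⟩, by rw [halg, halg]; exact hcs⟩
      exists_of_eq := fun {a b} h => by
        obtain ⟨a, rfl⟩ := hψ a
        obtain ⟨b, rfl⟩ := hψ b
        rw [halg, halg] at h
        obtain ⟨s, hs⟩ := IsLocalization.exists_of_eq (M := p.primeCompl) h
        exact ⟨⟨ψ s, fun h => s.2 ((hmem _).1 h)⟩, by simp only [← map_mul, hs]⟩ }
  haveI : IsIntegrallyClosed Cη := NormFieldX.isIntegrallyClosed_integralClosure _ _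
  exact ⟨IsLocalization.isDomain_of_le_nonZeroDivisors L (p.map ψ).primeCompl_le_nonZeroDivisors,
    isIntegrallyClosed_of_isLocalization L (p.map ψ).primeCompl (p.map ψ).primeCompl_le_nonZeroDivisors⟩

theorem generic_maps (hY : Good Y) {η : Y} (hη : closure {η} ∈ irreducibleComponents ↥Y) :
    closure {f.toNormalization η} ∈ irreducibleComponents ↥f.normalization := by
  refine FDescent.closure_mem_irreducibleComponents fun z hz => ?_
  obtain ⟨U, hU, hηU, -⟩ := exists_isAffineOpen_mem_and_subset (x := f η) (U := ⊤) trivial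
  have hW : IsAffineOpen (f.fromNormalization ⁻¹ᵁ U) := hU.preimage _
  have hzU : z ∈ f.fromNormalization ⁻¹ᵁ U := hz.mem_open (Opens.isOpen _) (le_preimage f U hηU)
  obtain ⟨η', hη', hη'U, hker⟩ := exists_ker_le f hY hU (hW.primeIdealOf ⟨z, hzU⟩).asIdeal
  have hle : (hW.primeIdealOf ⟨z, hzU⟩).asIdeal ≤ RingHom.ker (ev f η hηU) := by
    rw [← primeIdealOf_eq_ker f hY hU hη hηU]
    exact (AssPtX.primeIdealOf_le_iff hW hzU (le_preimage f U hηU)).2 hz
  obtain rfl := eq_of_ker_le f hY hU hη hη' hηU hη'U (hker.trans hle)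
  have e := hle.antisymm hker
  rw [← primeIdealOf_eq_ker f hY hU hη' hηU] at e
  exact (hz.antisymm ((AssPtX.primeIdealOf_le_iff hW (le_preimage f U hηU) hzU).1 e.ge)).eq

theorem generic_unique (hY : Good Y) {η η' : Y} (hη : closure {η} ∈ irreducibleComponents ↥Y)
    (hη' : closure {η'} ∈ irreducibleComponents ↥Y) (h : f.toNormalization η = f.toNormalization η') :
    η' = η := by
  obtain ⟨U, hU, hηU, -⟩ := exists_isAffineOpen_mem_and_subset (x := f η) (U := ⊤) trivial
  have he : f η' = f η := by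
    rw [← f.toNormalization_fromNormalization]
    exact congrArg f.fromNormalization h.symm
  have hη'U : η' ∈ f ⁻¹ᵁ U := by show f η' ∈ U; rw [he]; exact hηU
  refine eq_of_ker_le f hY hU hη hη' hηU hη'U (le_of_eq ?_)
  rw [← primeIdealOf_eq_ker f hY hU hη hηU, ← primeIdealOf_eq_ker f hY hU hη' hη'U]
  simp only [h]

theorem locallyFinite_components (hY : Good Y) :
    LocallyFinite (fun Z : ↥(irreducibleComponents ↥f.normalization) => (Z : Set ↥f.normalization)) := by
  intro n
  obtain ⟨U, hU, hnU, -⟩ := exists_isAffineOpen_mem_and_subset (x := f.fromNormalization n) (U := ⊤) trivial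
  refine ⟨_, (f.fromNormalization ⁻¹ᵁ U).isOpen.mem_nhds hnU, ?_⟩
  refine Set.Finite.of_finite_image (f := fun Z : ↥(irreducibleComponents ↥f.normalization) => (Z : Set ↥f.normalization)) ?_
    Subtype.val_injective.injOn
  refine ((finite_generic hY (f.isCompact_preimage hU.isCompact)).image
    fun η => closure {f.toNormalization η}).subset ?_
  rintro _ ⟨⟨Z, hZ⟩, ⟨z, hzZ, hzU⟩, rfl⟩
  obtain ⟨x', rfl, -⟩ := FDescent.exists_maximal_of_mem_irreducibleComponents hZ
  have hx'U : x' ∈ f.fromNormalization ⁻¹ᵁ U :=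
    (specializes_iff_mem_closure.mpr hzZ).mem_open (Opens.isOpen _) hzU
  obtain ⟨η, hη, hηU, hker⟩ := exists_ker_le f hY hU ((hU.preimage f.fromNormalization).primeIdealOf ⟨x', hx'U⟩).asIdeal
  refine ⟨η, ⟨hη, hηU⟩, ?_⟩
  rw [← primeIdealOf_eq_ker f hY hU hη hηU] at hker
  have hs := (AssPtX.primeIdealOf_le_iff _ _ _).1 hker
  exact congrArg (fun t => closure {t}) (FDescent.maximal_of_closure_mem_irreducibleComponents hZ hs)

end Groth.Agent.H4Norm
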